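import Groth.Agent.Lie3.Kill
import Groth.Prelude.Def_W4c1bouilletffgsL3

/-!
# A monomial basis of `D/J`

In the coordinates `e g c` over `R0 = A[h,f,i,p,q,s]` (`p = a - i`, `q = b + f`, `s = d + h`) the ideal `J` has the
relations `e p, g q, c s, e g c ↦ lower terms`; the monomials avoiding these are linearly independent after
solving the first three relations for `e g c`.
-/

open Finset MvPolynomial

noncomputable section

namespace Groth.Agent.Lie3

universe u

variable (A : Type u) [CommRing A]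

/-- `A[h,f,i,p,q,s]` -/
abbrev R0 : Type u := MvPolynomial (Fin 6) A

/-- `R0[e,g,c]` -/
abbrev T3 : Type u := MvPolynomial (Fin 3) (R0 A)

variable {A}

/-- `h` -/ abbrev hh : R0 A := X 0
/-- `f` -/ abbrev ff : R0 A := X 1
/-- `i` -/ abbrev ii : R0 A := X 2
/-- `p` -/ abbrev pp : R0 A := X 3
/-- `q` -/ abbrev qv : R0 A := X 4
/-- `s` -/ abbrev ss : R0 A := X 5

/-- first relation -/
def r1 : T3 A := X 0 * C pp + C (hh * qv - qv * ss + ff * ss)
/-- second relation -/
def r2 : T3 A := X 1 * C qv - C (hh * pp + ii * ss)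
/-- third relation -/
def r3 : T3 A := X 2 * C ss - C (ff * pp + ii * qv)
/-- fourth relation -/
def r4 : T3 A := X 0 * X 1 * X 2 + C (hh * hh) * X 2 - C ((qv - ff) * ff) * X 1 - C (ii * ii) * X 0 -
  C (hh * ii * (qv - ff)) + C (ii * hh * ff)

variable (A) in
/-- the ideal of the four relations -/
def J' : Ideal (T3 A) := Ideal.span {r1, r2, r3, r4}

/-- avoiding the four leading monomials -/
def Normal (x : T3 A) : Prop := ∀ v d, coeff d (coeff v x) ≠ 0 →
  (v 0 = 0 ∨ d 3 = 0) ∧ (v 1 = 0 ∨ d 4 = 0) ∧ (v 2 = 0 ∨ d 5 = 0) ∧ (v 0 = 0 ∨ v 1 = 0 ∨ v 2 = 0)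

lemma normal_add {x y : T3 A} (hx : Normal x) (hy : Normal y) : Normal (x + y) := fun v d h => by
  by_cases h1 : coeff d (coeff v x) = 0
  · refine hy v d fun h2 => h ?_
    rw [coeff_add, coeff_add, h1, h2, add_zero]
  · exact hx v d h1

/-- normal modulo some of the relations -/
def NJ (Jx : Ideal (T3 A)) : AddSubgroup (T3 A) where
  carrier := {x | ∃ y, Normal y ∧ x - y ∈ Jx}
  zero_mem' := ⟨0, fun v d h => absurd (by simp) h, by simp⟩
  add_mem' := by
    rintro x x' ⟨y, hy, h⟩ ⟨y', hy', h'⟩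
    exact ⟨y + y', normal_add hy hy', by rw [add_sub_add_comm]; exact add_mem h h'⟩
  neg_mem' := fun {x} ⟨y, hy, h⟩ => ⟨-y, fun v d hd => hy v d fun e => hd (by rw [coeff_neg, coeff_neg, e, neg_zero]), by
    rw [neg_sub_neg, ← neg_sub]; exact neg_mem h⟩

/-- a monomial -/
def mon (a b k H F I P Q S : ℕ) : T3 A :=
  X 0 ^ a * X 1 ^ b * X 2 ^ k * C (hh ^ H * ff ^ F * ii ^ I * pp ^ P * qv ^ Q * ss ^ S)

lemma mon_eq (a b k H F I P Q S : ℕ) : (mon a b k H F I P Q S : T3 A) =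
    monomial (Finsupp.equivFunOnFinite.symm ![a, b, k]) (monomial (Finsupp.equivFunOnFinite.symm ![H, F, I, P, Q, S]) 1) := by
  rw [mon, monomial_eq, monomial_eq, Finsupp.prod_fintype _ _ (fun _ => pow_zero _), Finsupp.prod_fintype _ _ (fun _ => pow_zero _)]
  simp [Fin.prod_univ_succ, mul_comm, mul_assoc]

lemma normal_mon {a b k H F I P Q S : ℕ} (h1 : a = 0 ∨ P = 0) (h2 : b = 0 ∨ Q = 0) (h3 : k = 0 ∨ S = 0)
    (h4 : a = 0 ∨ b = 0 ∨ k = 0) (c : A) : Normal (C (C c) * mon a b k H F I P Q S) := by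
  classical
  intro v d h
  rw [mon_eq, C_mul_monomial, C_mul_monomial, coeff_monomial] at h
  split_ifs at h with e
  · rw [coeff_monomial] at h
    split_ifs at h with e'
    · subst e e'
      simp only [Finsupp.equivFunOnFinite_symm_apply_apply]
      exact ⟨by simpa using h1, by simpa using h2, by simpa using h3, by simpa using h4⟩
    · exact absurd rfl h
  · simp at h

lemma reduce {Jx : Ideal (T3 A)} {x y : T3 A} (hy : y ∈ NJ Jx) (h : x - y ∈ Jx) : x ∈ NJ Jx := by
  obtain ⟨z, hz, hz'⟩ := hy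
  exact ⟨z, hz, by rw [show x - z = (x - y) + (y - z) by ring]; exact add_mem h hz'⟩

/-- the relations needed for a given exponent -/
def Enough (Jx : Ideal (T3 A)) (a b k : ℕ) : Prop :=
  (0 < a → r1 ∈ Jx) ∧ (0 < b → r2 ∈ Jx) ∧ (0 < k → r3 ∈ Jx) ∧ (0 < a → 0 < b → 0 < k → r4 ∈ Jx)

lemma Enough.mono {Jx : Ideal (T3 A)} {a b k a' b' k' : ℕ} (h : Enough Jx a b k) (ha : a' ≤ a) (hb : b' ≤ b)
    (hk : k' ≤ k) : Enough Jx a' b' k' :=
  ⟨fun h1 => h.1 (by omega), fun h1 => h.2.1 (by omega), fun h1 => h.2.2.1 (by omega),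
    fun h1 h2 h3 => h.2.2.2 (by omega) (by omega) (by omega)⟩

lemma mon_mem (Jx : Ideal (T3 A)) (c : A) : ∀ n a b k H F I P Q S : ℕ, a + b + k = n → Enough Jx a b k →
    C (C c) * mon a b k H F I P Q S ∈ NJ Jx := by
  intro n
  induction n using Nat.strong_induction_on with
  | _ n ih =>
    intro a b k H F I P Q S hn hx
    by_cases h1 : 1 ≤ a ∧ 1 ≤ P
    · obtain ⟨a, rfl⟩ : ∃ x, a = x + 1 := ⟨a - 1, by omega⟩
      obtain ⟨P, rfl⟩ : ∃ x, P = x + 1 := ⟨P - 1, by omega⟩
      have IH := fun H F I P Q S => ih (a + b + k) (by omega) a b k H F I P Q S rfl (hx.mono (by omega) (by omega) (by omega))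
      refine reduce (y := -(C (C c) * mon a b k (H + 1) F I P (Q + 1) S) + C (C c) * mon a b k H F I P (Q + 1) (S + 1)
        - C (C c) * mon a b k H (F + 1) I P Q (S + 1))
        (sub_mem (add_mem (neg_mem (IH _ _ _ _ _ _)) (IH _ _ _ _ _ _)) (IH _ _ _ _ _ _)) ?_
      convert Jx.mul_mem_left (C (C c) * mon a b k H F I P Q S) (hx.1 (by omega)) using 1
      simp only [r1, mon, map_mul, map_pow, map_add, map_sub]; ring
    by_cases h2 : 1 ≤ b ∧ 1 ≤ Q
    · obtain ⟨b, rfl⟩ : ∃ x, b = x + 1 := ⟨b - 1, by omega⟩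
      obtain ⟨Q, rfl⟩ : ∃ x, Q = x + 1 := ⟨Q - 1, by omega⟩
      have IH := fun H F I P Q S => ih (a + b + k) (by omega) a b k H F I P Q S rfl (hx.mono (by omega) (by omega) (by omega))
      refine reduce (y := C (C c) * mon a b k (H + 1) F I (P + 1) Q S + C (C c) * mon a b k H F (I + 1) P Q (S + 1))
        (add_mem (IH _ _ _ _ _ _) (IH _ _ _ _ _ _)) ?_
      convert Jx.mul_mem_left (C (C c) * mon a b k H F I P Q S) (hx.2.1 (by omega)) using 1
      simp only [r2, mon, map_mul, map_pow, map_add]; ring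
    by_cases h3 : 1 ≤ k ∧ 1 ≤ S
    · obtain ⟨k, rfl⟩ : ∃ x, k = x + 1 := ⟨k - 1, by omega⟩
      obtain ⟨S, rfl⟩ : ∃ x, S = x + 1 := ⟨S - 1, by omega⟩
      have IH := fun H F I P Q S => ih (a + b + k) (by omega) a b k H F I P Q S rfl (hx.mono (by omega) (by omega) (by omega))
      refine reduce (y := C (C c) * mon a b k H (F + 1) I (P + 1) Q S + C (C c) * mon a b k H F (I + 1) P (Q + 1) S)
        (add_mem (IH _ _ _ _ _ _) (IH _ _ _ _ _ _)) ?_
      convert Jx.mul_mem_left (C (C c) * mon a b k H F I P Q S) (hx.2.2.1 (by omega)) using 1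
      simp only [r3, mon, map_mul, map_pow, map_add]; ring
    by_cases h4 : 1 ≤ a ∧ 1 ≤ b ∧ 1 ≤ k
    · obtain ⟨a, rfl⟩ : ∃ x, a = x + 1 := ⟨a - 1, by omega⟩
      obtain ⟨b, rfl⟩ : ∃ x, b = x + 1 := ⟨b - 1, by omega⟩
      obtain ⟨k, rfl⟩ : ∃ x, k = x + 1 := ⟨k - 1, by omega⟩
      have IH0 := fun H F I P Q S => ih (a + b + k) (by omega) a b k H F I P Q S rfl (hx.mono (by omega) (by omega) (by omega))
      have IH1 := fun H F I P Q S => ih (a + b + (k + 1)) (by omega) a b (k + 1) H F I P Q S rfl (hx.mono (by omega) (by omega) (by omega))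
      have IH2 := fun H F I P Q S => ih (a + (b + 1) + k) (by omega) a (b + 1) k H F I P Q S rfl (hx.mono (by omega) (by omega) (by omega))
      have IH3 := fun H F I P Q S => ih ((a + 1) + b + k) (by omega) (a + 1) b k H F I P Q S rfl (hx.mono (by omega) (by omega) (by omega))
      refine reduce (y := -(C (C c) * mon a b (k + 1) (H + 2) F I P Q S)
        + C (C c) * mon a (b + 1) k H (F + 1) I P (Q + 1) S - C (C c) * mon a (b + 1) k H (F + 2) I P Q S
        + C (C c) * mon (a + 1) b k H F (I + 2) P Q S + C (C c) * mon a b k (H + 1) F (I + 1) P (Q + 1) S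
        - C (C c) * mon a b k (H + 1) (F + 1) (I + 1) P Q S - C (C c) * mon a b k (H + 1) (F + 1) (I + 1) P Q S)
        (sub_mem (sub_mem (add_mem (add_mem (sub_mem (add_mem (neg_mem (IH1 _ _ _ _ _ _)) (IH2 _ _ _ _ _ _))
          (IH2 _ _ _ _ _ _)) (IH3 _ _ _ _ _ _)) (IH0 _ _ _ _ _ _)) (IH0 _ _ _ _ _ _)) (IH0 _ _ _ _ _ _)) ?_
      convert Jx.mul_mem_left (C (C c) * mon a b k H F I P Q S) (hx.2.2.2 (by omega) (by omega) (by omega)) using 1
      simp only [r4, mon, map_mul, map_pow, map_add, map_sub]; ring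
    exact ⟨_, normal_mon (a := a) (b := b) (k := k) (H := H) (F := F) (I := I) (P := P) (Q := Q) (S := S)
      (by omega) (by omega) (by omega) (by omega) c, by simp⟩

lemma mem_NJ (Jx : Ideal (T3 A)) (x : T3 A) (hx : ∀ v ∈ x.support, Enough Jx (v 0) (v 1) (v 2)) : x ∈ NJ Jx := by
  rw [x.as_sum]
  refine sum_mem fun v hv => ?_
  rw [(coeff v x).as_sum, map_sum]
  refine sum_mem fun d _ => ?_
  convert mon_mem Jx (coeff d (coeff v x)) _ (v 0) (v 1) (v 2) (d 0) (d 1) (d 2) (d 3) (d 4) (d 5) rfl (hx v hv) using 1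
  rw [mon_eq, C_mul_monomial, C_mul_monomial, mul_one,
    show Finsupp.equivFunOnFinite.symm ![v 0, v 1, v 2] = v from Finsupp.ext fun i => by fin_cases i <;> simp,
    show Finsupp.equivFunOnFinite.symm ![d 0, d 1, d 2, d 3, d 4, d 5] = d from Finsupp.ext fun i => by fin_cases i <;> simp]

/-- numerator of `e` -/
def EE : R0 A := qv * (ss - hh) + (-(ff * ss))
/-- numerator of `g` -/
def GG : R0 A := hh * pp + ii * ss
/-- numerator of `c` -/
def CC : R0 A := ff * pp + ii * qv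

lemma eq_zero_of_mul_X_X {j l : Fin 6} {u : R0 A} (h : u * (X j * X l) = 0) : u = 0 :=
  ((isRegular_X' j).mul (isRegular_X' l)).right (by simpa using h : u * (X j * X l) = 0 * (X j * X l))

lemma EE_regular {u : R0 A} (h : u * EE = 0) : u = 0 :=
  eq_zero_of_mul_linear (j := 4) (by simp [kill_X_of_ne])
    (fun u hu => eq_zero_of_mul_X_X (j := 1) (l := 5) (by simpa using hu)) h

lemma GG_regular {u : R0 A} (h : u * GG = 0) : u = 0 :=
  eq_zero_of_mul_linear (j := 0) (by simp [kill_X_of_ne]) (fun u hu => eq_zero_of_mul_X_X hu) h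

lemma CC_regular {u : R0 A} (h : u * CC = 0) : u = 0 :=
  eq_zero_of_mul_linear (j := 1) (by simp [kill_X_of_ne]) (fun u hu => eq_zero_of_mul_X_X hu) h

lemma eq_zero_of_mul_pow {w : R0 A} (hw : ∀ u, u * w = 0 → u = 0) {n : ℕ} {u : R0 A} (h : u * w ^ n = 0) : u = 0 := by
  induction n with
  | zero => simpa using h
  | succ n ih => exact ih (hw _ (by rw [mul_assoc, ← pow_succ]; exact h))

lemma ext3 {v w : Fin 3 →₀ ℕ} (h0 : v 0 = w 0) (h1 : v 1 = w 1) (h2 : v 2 = w 2) : v = w :=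
  Finsupp.ext (Fin.forall_fin_succ.2 ⟨h0, Fin.forall_fin_succ.2 ⟨h1, Fin.forall_fin_succ.2 ⟨h2, fun i => i.elim0⟩⟩⟩)

section triangular
variable {ι : Type*} {j : Fin 6} {t : Finset ι} {T : ι → R0 A}

/-- distinct orders in `X_j` -/
lemma triangular {m : ι → ℕ} {M : ℕ} (hinj : Set.InjOn m t) (hT : ∀ v ∈ t, m v < M → kill j (T v) = T v)
    (h : ∑ v ∈ t, T v * X j ^ m v = 0) : ∀ v ∈ t, m v < M → T v = 0 := by
  intro v hv hM
  induction hn : m v using Nat.strong_induction_on generalizing v with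
  | _ n ih =>
    subst hn
    rw [← hT v hv hM]
    refine peel_single j t T m hv (fun w hw hne hwv => ?_) h
    by_contra hlt
    rcases (not_lt.1 hlt).eq_or_lt with e | e
    · exact hwv (hinj hw hv e)
    · exact hne (ih _ e w hw (e.trans hM) rfl)

lemma triangular' {k : ι → ℕ} {N : ℕ} (hk : ∀ v ∈ t, k v ≤ N) (hinj : Set.InjOn k t)
    (hT : ∀ v ∈ t, k v ≠ 0 → kill j (T v) = T v) (h : ∑ v ∈ t, T v * X j ^ (N - k v) = 0) :
    ∀ v ∈ t, T v = 0 := by
  classical
  have key := triangular (m := fun v => N - k v) (M := N)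
    (fun a ha b hb e => hinj ha hb (by have := hk a ha; have := hk b hb; dsimp only at e; omega))
    (fun v hv hlt => hT v hv (by omega)) h
  intro v hv
  by_cases hv0 : k v = 0
  · rw [sum_eq_single_of_mem v hv fun w hw hne => by
      rw [key w hw (by
        have := hk w hw
        have : k w ≠ 0 := fun e => hne (hinj hw hv (e.trans hv0.symm))
        omega), zero_mul]] at h
    exact eq_zero_of_mul_X_pow h
  · exact key v hv (by have := hk v hv; omega)

/-- removing the layers with positive exponent -/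
lemma layers {k : ι → ℕ} {N : ℕ} {co : ι → R0 A} (hk : ∀ v ∈ t, k v ≤ N) (hT0 : ∀ v, co v = 0 → T v = 0)
    (inner : ∀ n, 0 < n → ∑ v ∈ t with k v = n, kill j (T v) = 0 → ∀ v ∈ t, k v = n → co v = 0)
    (h : ∑ v ∈ t, T v * X j ^ (N - k v) = 0) : ∀ v ∈ t, 0 < k v → co v = 0 := by
  classical
  intro v hv hpos
  induction hn : N - k v using Nat.strong_induction_on generalizing v with
  | _ n ih =>
    subst hn
    refine inner (k v) hpos ?_ v hv rfl
    have hA := peel j t T (fun w => N - k w) (N - k v) (fun w hw hne => by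
      by_contra hlt
      have := hk v hv
      exact hne (hT0 w (ih _ (not_le.1 hlt) w hw (by omega) rfl))) h
    rwa [filter_congr fun w hw => show N - k w = N - k v ↔ k w = k v from by
      have := hk w hw; have := hk v hv; omega] at hA

end triangular

/-- the layer of a fixed positive exponent of `e` -/
lemma inner_A {N : ℕ} {t : Finset (Fin 3 →₀ ℕ)} {co : (Fin 3 →₀ ℕ) → R0 A} (hN : ∀ v ∈ t, v 1 ≤ N ∧ v 2 ≤ N)
    (h0 : ∀ v ∈ t, ∀ w ∈ t, v 0 = w 0) (hbk : ∀ v ∈ t, v 1 = 0 ∨ v 2 = 0)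
    (k4 : ∀ v ∈ t, v 1 ≠ 0 → kill 4 (co v) = co v) (k5 : ∀ v ∈ t, v 2 ≠ 0 → kill 5 (co v) = co v)
    (h : ∑ v ∈ t, co v * ii ^ (v 1 + v 2) * ss ^ (v 1 + (N - v 2)) * qv ^ (v 2 + (N - v 1)) = 0) :
    ∀ v ∈ t, co v = 0 := by
  classical
  have hb := triangular (j := 4) (T := fun v => co v * ii ^ (v 1 + v 2) * ss ^ (v 1 + (N - v 2)))
    (m := fun v => v 2 + (N - v 1)) (M := N)
    (fun a ha b hb e => by
      have := hN a ha; have := hN b hb; have := hbk a ha; have := hbk b hb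
      dsimp only at e
      exact ext3 (h0 a ha b hb) (by omega) (by omega))
    (fun v hv hlt => by
      simp only [map_mul, map_pow, k4 v hv (by omega), kill_X_of_ne (show (2 : Fin 6) ≠ 4 by decide),
        kill_X_of_ne (show (5 : Fin 6) ≠ 4 by decide)]) h
  have hb0 : ∀ v ∈ t, v 1 ≠ 0 → co v = 0 := fun v hv hne =>
    eq_zero_of_mul_X_pow (eq_zero_of_mul_X_pow (hb v hv (by have := hbk v hv; have := hN v hv; omega)))
  have hC : ∑ v ∈ t with v 1 = 0, co v * ii ^ v 2 * qv ^ (v 2 + N) * ss ^ (N - v 2) = 0 := by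
    rw [sum_filter]
    refine Eq.trans (sum_congr rfl fun v hv => ?_) h
    split_ifs with e
    · rw [e]; simp; ring
    · simp [hb0 v hv e]
  intro v hv
  by_cases e : v 1 = 0
  · refine eq_zero_of_mul_X_pow (eq_zero_of_mul_X_pow (triangular' (j := 5) (k := fun v : Fin 3 →₀ ℕ => v 2)
      (fun w hw => (hN w (mem_filter.1 hw).1).2) (fun a ha b hb' hab => ?_) (fun w hw hne => ?_) hC v (mem_filter.2 ⟨hv, e⟩)))
    · rw [coe_filter, Set.mem_ofPred_eq] at ha hb'
      exact ext3 (h0 a ha.1 b hb'.1) (ha.2.trans hb'.2.symm) hab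
    · simp only [map_mul, map_pow, k5 w (mem_filter.1 hw).1 hne, kill_X_of_ne (show (2 : Fin 6) ≠ 5 by decide),
        kill_X_of_ne (show (4 : Fin 6) ≠ 5 by decide)]
  · exact hb0 v hv e

/-- clearing denominators, a normal element which vanishes is zero -/
lemma eq_zero_of_normal {x : T3 A} (hx : Normal x) {N : ℕ} (hN : ∀ v ∈ x.support, v 0 ≤ N ∧ v 1 ≤ N ∧ v 2 ≤ N)
    (h : ∑ v ∈ x.support, coeff v x * EE ^ v 0 * GG ^ v 1 * CC ^ v 2 *
      (pp ^ (N - v 0) * qv ^ (N - v 1) * ss ^ (N - v 2)) = 0) : x = 0 := by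
  classical
  have k3 : ∀ v : Fin 3 →₀ ℕ, v 0 ≠ 0 → kill 3 (coeff v x) = coeff v x := fun v hv =>
    kill_eq_self fun d hd => ((hx v d (mem_support_iff.1 hd)).1).resolve_left hv
  have k4 : ∀ v : Fin 3 →₀ ℕ, v 1 ≠ 0 → kill 4 (coeff v x) = coeff v x := fun v hv =>
    kill_eq_self fun d hd => ((hx v d (mem_support_iff.1 hd)).2.1).resolve_left hv
  have k5 : ∀ v : Fin 3 →₀ ℕ, v 2 ≠ 0 → kill 5 (coeff v x) = coeff v x := fun v hv =>
    kill_eq_self fun d hd => ((hx v d (mem_support_iff.1 hd)).2.2.1).resolve_left hv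
  have habk : ∀ v ∈ x.support, v 0 = 0 ∨ v 1 = 0 ∨ v 2 = 0 := fun v hv => by
    obtain ⟨d, hd⟩ := ne_zero_iff.1 (mem_support_iff.1 hv)
    exact (hx v d hd).2.2.2
  have hkE : kill 3 (EE : R0 A) = EE := by simp [EE, kill_X_of_ne]
  have hk3G : kill 3 (GG : R0 A) = ii * ss := by simp [GG, kill_X_of_ne]
  have hk3C : kill 3 (CC : R0 A) = ii * qv := by simp [CC, kill_X_of_ne]
  have hk4G : kill 4 (GG : R0 A) = GG := by simp [GG, kill_X_of_ne]
  have hk4C : kill 4 (CC : R0 A) = ff * pp := by simp [CC, kill_X_of_ne]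
  have hk5C : kill 5 (CC : R0 A) = CC := by simp [CC, kill_X_of_ne]
  have hA := layers (j := 3) (t := x.support) (k := fun v : Fin 3 →₀ ℕ => v 0) (co := fun v => coeff v x)
    (T := fun v => coeff v x * EE ^ v 0 * GG ^ v 1 * CC ^ v 2 * (qv ^ (N - v 1) * ss ^ (N - v 2)))
    (fun v hv => (hN v hv).1) (fun v hv => by simp [hv]) (fun n hn hsum v hv hvn => ?_)
    (Eq.trans (sum_congr rfl fun v _ => by ring) h)
  swap
  · refine inner_A (t := x.support.filter fun v => v 0 = n) (co := fun v => coeff v x) (N := N)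
      (fun v hv => (hN v (mem_filter.1 hv).1).2) (fun v hv w hw => (mem_filter.1 hv).2.trans (mem_filter.1 hw).2.symm)
      (fun v hv => (habk v (mem_filter.1 hv).1).resolve_left (by rw [(mem_filter.1 hv).2]; omega))
      (fun v _ => k4 v) (fun v _ => k5 v) (eq_zero_of_mul_pow (fun u => EE_regular) (n := n) ?_) v
      (mem_filter.2 ⟨hv, hvn⟩)
    rw [sum_mul]
    refine Eq.trans (sum_congr rfl fun v hv => ?_) hsum
    rw [mem_filter] at hv
    simp only [map_mul, map_pow, k3 v (by omega), hkE, hk3G, hk3C, kill_X_of_ne (show (4 : Fin 6) ≠ 3 by decide),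
      kill_X_of_ne (show (5 : Fin 6) ≠ 3 by decide), hv.2, mul_pow, pow_add]
    ring
  have ha0 : ∀ v ∈ x.support, v 0 = 0 := fun v hv => by
    by_contra hne
    exact mem_support_iff.1 hv (hA v hv (Nat.pos_of_ne_zero hne))
  have h' : ∑ v ∈ x.support, coeff v x * GG ^ v 1 * CC ^ v 2 * ss ^ (N - v 2) * qv ^ (N - v 1) = 0 := by
    refine eq_zero_of_mul_X_pow (j := 3) (m := N) ?_
    rw [sum_mul]
    refine Eq.trans (sum_congr rfl fun v hv => ?_) h
    rw [ha0 v hv]; simp; ring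
  have hB := layers (j := 4) (t := x.support) (k := fun v : Fin 3 →₀ ℕ => v 1) (co := fun v => coeff v x)
    (T := fun v => coeff v x * GG ^ v 1 * CC ^ v 2 * ss ^ (N - v 2))
    (fun v hv => (hN v hv).2.1) (fun v hv => by simp [hv]) (fun n hn hsum v hv hvn => ?_) h'
  swap
  · refine eq_zero_of_mul_X_pow (eq_zero_of_mul_X_pow (triangular' (j := 5) (t := x.support.filter fun v => v 1 = n) (k := fun v : Fin 3 →₀ ℕ => v 2) (N := N)
      (T := fun v => coeff v x * ff ^ v 2 * pp ^ v 2)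
      (fun w hw => (hN w (mem_filter.1 hw).1).2.2) (fun a ha b hb' hab => ?_) (fun w hw hne => ?_)
      (eq_zero_of_mul_pow (fun u => GG_regular) (n := n) ?_) v (mem_filter.2 ⟨hv, hvn⟩)))
    · rw [coe_filter, Set.mem_ofPred_eq] at ha hb'
      exact ext3 ((ha0 a ha.1).trans (ha0 b hb'.1).symm) (ha.2.trans hb'.2.symm) hab
    · simp only [map_mul, map_pow, k5 w hne, kill_X_of_ne (show (1 : Fin 6) ≠ 5 by decide),
        kill_X_of_ne (show (3 : Fin 6) ≠ 5 by decide)]
    · rw [sum_mul]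
      refine Eq.trans (sum_congr rfl fun v hv => ?_) hsum
      rw [mem_filter] at hv
      simp only [map_mul, map_pow, k4 v (by omega), hk4G, hk4C, kill_X_of_ne (show (5 : Fin 6) ≠ 4 by decide),
        hv.2, mul_pow]
      ring
  have hb0 : ∀ v ∈ x.support, v 1 = 0 := fun v hv => by
    by_contra hne
    exact mem_support_iff.1 hv (hB v hv (Nat.pos_of_ne_zero hne))
  have h'' : ∑ v ∈ x.support, coeff v x * CC ^ v 2 * ss ^ (N - v 2) = 0 := by
    refine eq_zero_of_mul_X_pow (j := 4) (m := N) ?_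
    rw [sum_mul]
    refine Eq.trans (sum_congr rfl fun v hv => ?_) h'
    rw [hb0 v hv]; simp
  have hC := triangular' (j := 5) (k := fun v : Fin 3 →₀ ℕ => v 2) (fun w hw => (hN w hw).2.2)
    (fun a ha b hb hab => ext3 ((ha0 a ha).trans (ha0 b hb).symm) ((hb0 a ha).trans (hb0 b hb).symm) hab)
    (fun w _ hne => by simp only [map_mul, map_pow, k5 w hne, hk5C]) h''
  rw [← support_eq_empty]
  exact eq_empty_of_forall_notMem fun v hv =>
    mem_support_iff.1 hv (eq_zero_of_mul_pow (fun u => CC_regular) (hC v hv))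

end Groth.Agent.Lie3
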