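import Mathlib

/-!
# Specializing one variable to zero
-/

open Finset MvPolynomial

noncomputable section

namespace Groth.Agent.Lie3

variable {σ A : Type*} [CommRing A]

open Classical in
/-- set the variable `j` to zero -/
def kill (j : σ) : MvPolynomial σ A →ₐ[A] MvPolynomial σ A := aeval fun l => if l = j then 0 else X l

@[simp] lemma kill_X_self (j : σ) : kill j (X j : MvPolynomial σ A) = 0 := by simp [kill]

lemma kill_X_of_ne {j l : σ} (h : l ≠ j) : kill j (X l : MvPolynomial σ A) = X l := by simp [kill, h]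

lemma X_dvd_sub_kill (j : σ) (u : MvPolynomial σ A) : X j ∣ u - kill j u := by
  classical
  induction u using MvPolynomial.induction_on with
  | C a => simp [kill]
  | add p q hp hq => rw [map_add, add_sub_add_comm]; exact dvd_add hp hq
  | mul_X p l hp =>
    rw [map_mul]
    by_cases h : l = j
    · subst h; rw [kill_X_self, mul_zero, sub_zero]; exact dvd_mul_left _ _
    · rw [kill_X_of_ne h, ← sub_mul]; exact hp.mul_right _

lemma kill_monomial {j : σ} {d : σ →₀ ℕ} (a : A) (hd : d j = 0) : kill j (monomial d a) = monomial d a := by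
  classical
  rw [kill, aeval_monomial, monomial_eq, algebraMap_eq]
  congr 1
  refine Finsupp.prod_congr fun l hl => ?_
  have : l ≠ j := fun e => Finsupp.mem_support_iff.1 hl (e ▸ hd)
  rw [if_neg this]

lemma kill_eq_self {j : σ} {u : MvPolynomial σ A} (h : ∀ d ∈ u.support, d j = 0) : kill j u = u := by
  conv_lhs => rw [u.as_sum, map_sum]
  conv_rhs => rw [u.as_sum]
  exact sum_congr rfl fun d hd => kill_monomial _ (h d hd)

lemma isRegular_X' (j : σ) : IsRegular (X j : MvPolynomial σ A) := by
  refine isRegular_iff_eq_zero_of_mul.2 ⟨fun u hu => ?_, fun u hu => ?_⟩ <;>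
  · ext d
    have := congrArg (coeff (Finsupp.single j 1 + d)) hu
    first
      | rw [coeff_X_mul, coeff_zero] at this; rw [this, coeff_zero]
      | rw [mul_comm, coeff_X_mul, coeff_zero] at this; rw [this, coeff_zero]

lemma eq_zero_of_mul_X_pow {j : σ} {u : MvPolynomial σ A} {m : ℕ} (h : u * X j ^ m = 0) : u = 0 :=
  ((isRegular_X' j).pow m).right (by simpa using h : u * X j ^ m = 0 * X j ^ m)

/-- `X_j a + b` is regular when `b` is free of `X_j` and regular -/
lemma eq_zero_of_mul_linear {j : σ} {a b : MvPolynomial σ A} (hb : kill j b = b)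
    (hbreg : ∀ u, u * b = 0 → u = 0) {u : MvPolynomial σ A} (h : u * (X j * a + b) = 0) : u = 0 := by
  induction hn : u.totalDegree using Nat.strong_induction_on generalizing u with
  | _ n ih =>
    have h0 := congrArg (kill j) h
    rw [map_mul, map_add, map_mul, kill_X_self, zero_mul, zero_add, hb, map_zero] at h0
    obtain ⟨u', hu'⟩ := X_dvd_sub_kill j u
    rw [hbreg _ h0, sub_zero] at hu'
    by_contra hne
    have hne' : u' ≠ 0 := fun e => hne (by rw [hu', e, mul_zero])
    have h1 : u' * (X j * a + b) = 0 := by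
      refine (isRegular_X' (A := A) j).left ?_
      show X j * (u' * (X j * a + b)) = X j * 0
      rw [mul_zero, ← mul_assoc, ← hu', h]
    obtain ⟨d, hd, hmax⟩ := exists_mem_eq_sup u'.support (by simpa using hne') fun d : σ →₀ ℕ => d.sum fun _ e => e
    have hmem : Finsupp.single j 1 + d ∈ u.support := by
      rw [mem_support_iff, hu', coeff_X_mul]; exact mem_support_iff.1 hd
    have hlt : u'.totalDegree < n := by
      have := le_totalDegree hmem
      rw [Finsupp.sum_add_index' (fun _ => rfl) (fun _ _ _ => rfl), Finsupp.sum_single_index rfl] at this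
      rw [← hn, totalDegree, hmax]
      omega
    exact hne' (ih _ hlt h1 rfl)

/-- the part of lowest order in `X_j` -/
lemma peel {ι : Type*} (j : σ) (s : Finset ι) (T : ι → MvPolynomial σ A) (m : ι → ℕ) (m0 : ℕ)
    (hm : ∀ v ∈ s, T v ≠ 0 → m0 ≤ m v) (h : ∑ v ∈ s, T v * X j ^ m v = 0) :
    ∑ v ∈ s with m v = m0, kill j (T v) = 0 := by
  classical
  have h1 : ∑ v ∈ s, T v * X j ^ (m v - m0) = 0 := by
    refine eq_zero_of_mul_X_pow (j := j) (m := m0) ?_
    rw [sum_mul]
    refine Eq.trans (sum_congr rfl fun v hv => ?_) h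
    rcases eq_or_ne (T v) 0 with e | e
    · simp [e]
    · rw [mul_assoc, ← pow_add, Nat.sub_add_cancel (hm v hv e)]
  have h2 := congrArg (kill j) h1
  rw [map_sum, map_zero] at h2
  rw [sum_filter]
  refine Eq.trans (sum_congr rfl fun v hv => ?_) h2
  rw [map_mul, map_pow, kill_X_self]
  split_ifs with e
  · rw [e, Nat.sub_self, pow_zero, mul_one]
  · rcases eq_or_ne (T v) 0 with e' | e'
    · simp [e']
    · have := hm v hv e'
      rw [zero_pow (by omega), mul_zero]

lemma peel_single {ι : Type*} (j : σ) (s : Finset ι) (T : ι → MvPolynomial σ A) (m : ι → ℕ) {v0 : ι} (h0 : v0 ∈ s)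
    (hm : ∀ v ∈ s, T v ≠ 0 → v ≠ v0 → m v0 < m v) (h : ∑ v ∈ s, T v * X j ^ m v = 0) : kill j (T v0) = 0 := by
  classical
  have := peel j s T m (m v0) (fun v hv e => by
    rcases eq_or_ne v v0 with rfl | hne
    · rfl
    · exact (hm v hv e hne).le) h
  rwa [sum_eq_single_of_mem v0 (by simp [h0]) fun v hv hne => by
    rw [mem_filter] at hv
    rcases eq_or_ne (T v) 0 with e | e
    · simp [e]
    · exact absurd hv.2 (hm v hv.1 e hne).ne'] at this

end Groth.Agent.Lie3
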