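import Groth.Agent.Lie3.Basis

/-!
# The ideals `I`, `J`, `L`
-/

open Finset MvPolynomial Lie3Mod

noncomputable section

namespace Groth.Agent.Lie3

universe u

variable (A : Type u) [CommRing A]

/-- `R0[1/pqs]` -/
abbrev KK : Type u := Localization.Away (pp * qv * ss : R0 A)

variable {A}

local notation "inv'" => IsLocalization.Away.invSelf (S := KK A) (pp * qv * ss : R0 A)

/-- the parametrization -/
def φ : T3 A →ₐ[R0 A] KK A :=
  aeval ![algebraMap (R0 A) (KK A) (EE * (qv * ss)) * inv', algebraMap (R0 A) (KK A) (GG * (pp * ss)) * inv',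
    algebraMap (R0 A) (KK A) (CC * (pp * qv)) * inv']

lemma algebraMap_pqs_mul_inv : algebraMap (R0 A) (KK A) (pp * qv * ss) * inv' = 1 :=
  IsLocalization.Away.mul_invSelf _

lemma φ_X0_mul : φ (X 0) * algebraMap (R0 A) (KK A) pp = algebraMap (R0 A) (KK A) EE := by
  have h := algebraMap_pqs_mul_inv (A := A)
  simp only [φ, aeval_X, Matrix.cons_val_zero, map_mul] at h ⊢
  linear_combination algebraMap (R0 A) (KK A) EE * h

lemma φ_X1_mul : φ (X 1) * algebraMap (R0 A) (KK A) qv = algebraMap (R0 A) (KK A) GG := by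
  have h := algebraMap_pqs_mul_inv (A := A)
  simp only [φ, aeval_X, Matrix.cons_val_one, Matrix.cons_val_zero, map_mul] at h ⊢
  linear_combination algebraMap (R0 A) (KK A) GG * h

lemma φ_X2_mul : φ (X 2) * algebraMap (R0 A) (KK A) ss = algebraMap (R0 A) (KK A) CC := by
  have h := algebraMap_pqs_mul_inv (A := A)
  simp only [φ, aeval_X, Matrix.cons_val_two, Matrix.tail_cons, Matrix.head_cons, map_mul] at h ⊢
  linear_combination algebraMap (R0 A) (KK A) CC * h

lemma isUnit_pqs : IsUnit (algebraMap (R0 A) (KK A) (pp * qv * ss)) :=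
  IsLocalization.Away.algebraMap_isUnit _

lemma φ_r1 : φ (r1 : T3 A) = 0 := by
  rw [r1, map_add, map_mul, ← algebraMap_eq, AlgHom.commutes, AlgHom.commutes, φ_X0_mul, ← map_add]
  convert map_zero (algebraMap (R0 A) (KK A))
  unfold EE; ring

lemma φ_r2 : φ (r2 : T3 A) = 0 := by
  rw [r2, map_sub, map_mul, ← algebraMap_eq, AlgHom.commutes, AlgHom.commutes, φ_X1_mul, ← map_sub]
  convert map_zero (algebraMap (R0 A) (KK A))
  unfold GG; ring

lemma φ_r3 : φ (r3 : T3 A) = 0 := by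
  rw [r3, map_sub, map_mul, ← algebraMap_eq, AlgHom.commutes, AlgHom.commutes, φ_X2_mul, ← map_sub]
  convert map_zero (algebraMap (R0 A) (KK A))
  unfold CC; ring

lemma φ_r4 : φ (r4 : T3 A) = 0 := by
  refine (IsUnit.mul_left_eq_zero isUnit_pqs).1 ?_
  have key : (EE * GG * CC + hh * hh * CC * (pp * qv) - (qv - ff) * ff * GG * (pp * ss) - ii * ii * EE * (qv * ss)
      - hh * ii * (qv - ff) * (pp * qv * ss) + ii * hh * ff * (pp * qv * ss) : R0 A) = 0 := by
    unfold EE GG CC; ring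
  have h0 := congrArg (algebraMap (R0 A) (KK A)) key
  simp only [r4, map_add, map_sub, map_mul, map_zero, ← algebraMap_eq, AlgHom.commutes, ← φ_X0_mul,
    ← φ_X1_mul, ← φ_X2_mul] at h0 ⊢
  linear_combination h0

lemma J'_le_ker : J' A ≤ RingHom.ker (φ (A := A)) := Ideal.span_le.2 <| by
  rintro x (rfl | rfl | rfl | rfl)
  exacts [φ_r1, φ_r2, φ_r3, φ_r4]

lemma algebraMap_KK_injective : Function.Injective (algebraMap (R0 A) (KK A)) :=
  IsLocalization.injective _ (Submonoid.powers_le.2 <| mem_nonZeroDivisors_iff_right.2 fun u hu => eq_zero_of_mul_X_X (j := 3) (l := 4) (eq_zero_of_mul_X_pow (j := 5) (m := 1)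
      (by rw [pow_one, mul_assoc]; exact hu)))

lemma eq_zero_of_φ {y : T3 A} (hy : Normal y) (h : φ y = 0) : y = 0 := by
  classical
  have hN : ∀ v ∈ y.support, v 0 ≤ y.totalDegree ∧ v 1 ≤ y.totalDegree ∧ v 2 ≤ y.totalDegree := fun v hv => by
    have := le_totalDegree hv
    rw [Finsupp.sum_fintype _ _ (fun _ => rfl), Fin.sum_univ_three] at this
    omega
  refine eq_zero_of_normal hy hN (algebraMap_KK_injective ?_)
  rw [map_zero, map_sum]
  have hexp : φ y = ∑ v ∈ y.support,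
      algebraMap (R0 A) (KK A) (coeff v y) * (φ (X 0) ^ v 0 * φ (X 1) ^ v 1 * φ (X 2) ^ v 2) := by
    conv_lhs => rw [y.as_sum, map_sum]
    refine sum_congr rfl fun v _ => ?_
    rw [monomial_eq, Finsupp.prod_fintype _ _ (fun _ => pow_zero _), Fin.prod_univ_three, ← algebraMap_eq]
    simp only [map_mul, map_pow, AlgHom.commutes]
  rw [h] at hexp
  have h2 := congrArg (· * algebraMap (R0 A) (KK A) (pp * qv * ss) ^ y.totalDegree) hexp
  rw [zero_mul, sum_mul] at h2
  refine Eq.trans (sum_congr rfl fun v hv => ?_) h2.symm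
  have key : ∀ (n : ℕ), n ≤ y.totalDegree → ∀ z w : KK A,
      (z * w) ^ n * w ^ (y.totalDegree - n) = z ^ n * w ^ y.totalDegree := fun n hn z w => by
    rw [mul_pow, mul_assoc, ← pow_add, Nat.add_sub_cancel' hn]
  obtain ⟨h0, h1, h3⟩ := hN v hv
  simp only [map_mul, map_pow, mul_pow]
  rw [← φ_X0_mul, ← φ_X1_mul, ← φ_X2_mul]
  calc _ = algebraMap (R0 A) (KK A) (coeff v y) *
        ((φ (X 0) * algebraMap (R0 A) (KK A) pp) ^ v 0 * algebraMap (R0 A) (KK A) pp ^ (y.totalDegree - v 0)) *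
        ((φ (X 1) * algebraMap (R0 A) (KK A) qv) ^ v 1 * algebraMap (R0 A) (KK A) qv ^ (y.totalDegree - v 1)) *
        ((φ (X 2) * algebraMap (R0 A) (KK A) ss) ^ v 2 * algebraMap (R0 A) (KK A) ss ^ (y.totalDegree - v 2)) := by
        ring
    _ = _ := by rw [key _ h0, key _ h1, key _ h3]; ring

lemma mem_of_φ {Jx : Ideal (T3 A)} (hJx : Jx ≤ RingHom.ker (φ (A := A))) {x : T3 A}
    (hx : ∀ v ∈ x.support, Enough Jx (v 0) (v 1) (v 2)) (h : φ x = 0) : x ∈ Jx := by
  obtain ⟨y, hy, hxy⟩ := mem_NJ Jx x hx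
  have := RingHom.mem_ker.1 (hJx hxy)
  rw [map_sub, h, zero_sub, neg_eq_zero] at this
  rwa [eq_zero_of_φ hy this, sub_zero] at hxy

lemma ker_φ : RingHom.ker (φ (A := A)) = J' A :=
  le_antisymm (fun x hx => mem_of_φ J'_le_ker (fun v _ =>
    ⟨fun _ => Ideal.subset_span (by simp), fun _ => Ideal.subset_span (by simp), fun _ => Ideal.subset_span (by simp),
      fun _ _ _ => Ideal.subset_span (by simp)⟩) hx) J'_le_ker

/-- the coordinates -/
def θ : D A →ₐ[A] T3 A := aeval ![C (pp + ii), C (qv - ff), X 2, C (ss - hh), X 0, C ff, X 1, C hh, C ii]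

/-- back -/
def η : T3 A →ₐ[A] D A := aevalTower (aeval ![vh, vf, vi, va - vi, vb + vf, vd + vh]) ![ve, vg, vc]

@[simp] lemma η_θ (x : D A) : η (θ x) = x := by
  suffices (η.comp θ : D A →ₐ[A] D A) = AlgHom.id A _ from congrArg (fun f : D A →ₐ[A] D A => f x) this
  refine algHom_ext fun i => ?_
  fin_cases i <;> simp [θ, η]

lemma θ_Q1 : θ (Q1 A) = -r2 := by simp [θ, Q1, r2]; ring
lemma θ_Q2 : θ (Q2 A) = -r1 := by simp [θ, Q2, r1]; ring
lemma θ_Q3 : θ (Q3 A) = r3 := by simp [θ, Q3, r3]; ring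
lemma θ_detM : θ (detM A) = -r4 := by simp [θ, detM, r4]; ring

/-- membership transfers back along `θ` -/
lemma mem_of_θ_mem {s : Set (D A)} {x : D A} (h : θ x ∈ Ideal.span (θ '' s)) : x ∈ Ideal.span s := by
  have := Ideal.mem_map_of_mem (η (A := A)) h
  rwa [η_θ, Ideal.map_span, Set.image_image, Set.image_congr (g := id) (fun a _ => η_θ a), Set.image_id] at this

/-- the parametrization of `D/J` -/
def ψ : D A →ₐ[A] KK A := ((φ (A := A)).restrictScalars A).comp θ

lemma span_θ_J : Ideal.span (θ '' {Q1 A, Q2 A, Q3 A, detM A}) = J' A := by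
  simp only [Set.image_insert_eq, Set.image_singleton, θ_Q1, θ_Q2, θ_Q3, θ_detM, Ideal.span_insert,
    Ideal.span_singleton_neg, J']
  rw [sup_left_comm (Ideal.span {r2}) (Ideal.span {r1})]

lemma mem_idJ_iff {x : D A} : x ∈ idJ A ↔ ψ x = 0 := by
  have e : ψ x = φ (θ x) := rfl
  rw [e, ← RingHom.mem_ker (f := φ), ker_φ, ← span_θ_J]
  refine ⟨fun h => ?_, mem_of_θ_mem⟩
  rw [← Ideal.map_span]
  exact Ideal.mem_map_of_mem _ h

instance [IsDomain A] : IsDomain (KK A) :=
  IsLocalization.isDomain_localization (powers_le_nonZeroDivisors_of_noZeroDivisors (by simp))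

lemma idJ_isPrime [IsDomain A] : (idJ A).IsPrime := by
  rw [show idJ A = RingHom.ker (ψ (A := A)) from Ideal.ext fun x => mem_idJ_iff.trans RingHom.mem_ker.symm]
  exact RingHom.ker_isPrime _

lemma isUnit_ψ_L1 : IsUnit (ψ (L1 A)) := by
  have : ψ (L1 A) = algebraMap (R0 A) (KK A) pp := by
    simp [ψ, L1, θ, ← algebraMap_eq]
  rw [this]
  refine isUnit_of_dvd_unit (map_dvd _ ?_) isUnit_pqs
  exact Dvd.intro (qv * ss) (by ring)

/-- the parametrization of `L` -/
def lam : D A →ₐ[A] R0 A := aeval ![X 2, -X 1, X 3, -X 0, X 4, X 1, X 5, X 0, X 2]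

/-- its section -/
def sec : R0 A →ₐ[A] D A := aeval ![vh, vf, vi, vc, ve, vg]

lemma mk_sec_lam (x : D A) : Ideal.Quotient.mk (idL A) (sec (lam x)) = Ideal.Quotient.mk (idL A) x := by
  suffices ((Ideal.Quotient.mkₐ A (idL A)).comp (sec.comp lam)) = Ideal.Quotient.mkₐ A (idL A) from
    congrArg (fun f : D A →ₐ[A] _ => f x) this
  refine algHom_ext fun i => ?_
  simp only [AlgHom.comp_apply, Ideal.Quotient.mkₐ_eq_mk]
  refine (Ideal.Quotient.eq).2 ?_
  have h1 : L1 A ∈ idL A := Ideal.subset_span (by simp)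
  have h2 : L2 A ∈ idL A := Ideal.subset_span (by simp)
  have h3 : L3 A ∈ idL A := Ideal.subset_span (by simp)
  fin_cases i <;> simp [lam, sec]
  · simpa [L1] using neg_mem h1
  · convert neg_mem h2 using 1; simp [L2]; ring
  · convert neg_mem h3 using 1; simp [L3]; ring

lemma lam_L {x : D A} (hx : x ∈ idL A) : lam x = 0 := by
  refine RingHom.mem_ker.1 ((Ideal.span_le.2 ?_ : idL A ≤ RingHom.ker (lam (A := A))) hx)
  rintro y (rfl | rfl | rfl) <;> simp [lam, L1, L2, L3]

lemma mem_idL_iff {x : D A} : x ∈ idL A ↔ lam x = 0 := by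
  refine ⟨lam_L, fun h => Ideal.Quotient.eq_zero_iff_mem.1 ?_⟩
  rw [← mk_sec_lam, h, map_zero, map_zero]

lemma idL_isPrime [IsDomain A] : (idL A).IsPrime := by
  rw [show idL A = RingHom.ker (lam (A := A)) from Ideal.ext fun x => mem_idL_iff.trans RingHom.mem_ker.symm]
  exact RingHom.ker_isPrime _

lemma detM_regular_mod_L {u : D A} (h : u * detM A ∈ idL A) : u ∈ idL A := by
  rw [mem_idL_iff] at h ⊢
  rw [map_mul] at h
  have e : lam (detM A) = X 0 * (-(X 3 * X 0) - 2 * (X 1 * X 2)) +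
      (X 4 * (X 2 * X 2 - X 5 * X 3) + -(X 5 * (X 1 * X 1))) := by
    simp [lam, detM]; ring
  rw [e] at h
  refine eq_zero_of_mul_linear (by simp [kill_X_of_ne]) (fun v hv => ?_) h
  refine eq_zero_of_mul_linear (by simp [kill_X_of_ne]) (fun w hw => ?_) hv
  rw [mul_neg, neg_eq_zero, ← mul_assoc] at hw
  exact eq_zero_of_mul_X_pow (j := 5) (m := 1) (by rw [pow_one]; exact eq_zero_of_mul_X_X hw)

lemma comb_mem_idI (a b c : D A) : a * Q1 A + b * Q2 A + c * Q3 A ∈ idI A :=
  add_mem (add_mem (Ideal.mul_mem_left _ _ (Ideal.subset_span (by simp))) (Ideal.mul_mem_left _ _ (Ideal.subset_span (by simp))))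
    (Ideal.mul_mem_left _ _ (Ideal.subset_span (by simp)))

lemma detM_mul_L {x : D A} (hx : x ∈ idL A) : detM A * x ∈ idI A := by
  have : idL A ≤ (idI A).colon {detM A} := Ideal.span_le.2 <| by
    rintro y (rfl | rfl | rfl) <;>
      rw [SetLike.mem_coe, Submodule.mem_colon_singleton, smul_eq_mul]
    · convert comb_mem_idI (-(vh * vc) + vb * vi) (vg * vc - vi * vi) (-(vg * vb) + vh * vi) using 1
      simp [detM, L1, Q1, Q2, Q3]; ring
    · convert comb_mem_idI (ve * vc - vb * vf) (vh * vc + vi * vf) (-(vh * vb) - vi * ve) using 1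
      simp [detM, L2, Q1, Q2, Q3]; ring
    · convert comb_mem_idI (ve * vi - vh * vf) (vh * vi + vg * vf) (-(vh * vh) - vg * ve) using 1
      simp [detM, L3, Q1, Q2, Q3]; ring
  rw [mul_comm]
  exact Submodule.mem_colon_singleton.1 (this hx)

lemma idI_le_idL : idI A ≤ idL A := Ideal.span_le.2 <| by
  rintro y (rfl | rfl | rfl) <;> simp [mem_idL_iff, lam, Q1, Q2, Q3] <;> ring

lemma idI_le_idJ : idI A ≤ idJ A := Ideal.span_mono (by simp [Set.insert_subset_iff])

lemma idI_eq : idI A = idJ A ⊓ idL A := by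
  refine le_antisymm (le_inf idI_le_idJ idI_le_idL) fun x ⟨hxJ, hxL⟩ => ?_
  rw [show idJ A = idI A ⊔ Ideal.span {detM A} by simp only [idJ, idI, Ideal.span_insert]; ac_rfl] at hxJ
  obtain ⟨y, hy, z, hz, rfl⟩ := Submodule.mem_sup.1 hxJ
  obtain ⟨u, rfl⟩ := Ideal.mem_span_singleton'.1 hz
  have : u ∈ idL A := detM_regular_mod_L (by simpa using sub_mem hxL (idI_le_idL hy))
  exact add_mem hy (by rw [mul_comm]; exact detM_mul_L this)

lemma colon_idL : (idI A).colon (idL A : Set (D A)) = idJ A := by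
  ext x
  rw [Submodule.mem_colon]
  constructor
  · intro h
    have := mem_idJ_iff.1 (idI_le_idJ (h (L1 A) (Ideal.subset_span (by simp))))
    rw [smul_eq_mul, map_mul] at this
    exact mem_idJ_iff.2 ((IsUnit.mul_left_eq_zero isUnit_ψ_L1).1 this)
  · intro h y hy
    rw [idI_eq]
    exact ⟨Ideal.mul_mem_right _ _ h, Ideal.mul_mem_left _ _ hy⟩

lemma colon_idJ : (idI A).colon (idJ A : Set (D A)) = idL A := by
  ext x
  rw [Submodule.mem_colon]
  constructor
  · exact fun h => detM_regular_mod_L (idI_le_idL (h (detM A) (Ideal.subset_span (by simp))))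
  · intro h y hy
    rw [idI_eq]
    exact ⟨Ideal.mul_mem_left _ _ hy, Ideal.mul_mem_right _ _ h⟩

lemma idL_minimal [IsDomain A] : idL A ∈ (idI A).minimalPrimes := by
  refine ⟨⟨idL_isPrime, idI_le_idL⟩, fun P ⟨hP, hIP⟩ hPL => ?_⟩
  rcases hP.inf_le.1 (idI_eq.ge.trans hIP) with h | h
  · refine absurd (hPL (h (Ideal.subset_span (by simp) : detM A ∈ idJ A))) fun hd => ?_
    have := mem_idL_iff.1 (detM_regular_mod_L (u := 1) (by simpa using hd))
    simp at this
  · exact h

lemma idJ_minimal [IsDomain A] : idJ A ∈ (idI A).minimalPrimes := by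
  refine ⟨⟨idJ_isPrime, idI_le_idJ⟩, fun P ⟨hP, hIP⟩ hPJ => ?_⟩
  rcases hP.inf_le.1 (idI_eq.ge.trans hIP) with h | h
  · exact h
  · exact absurd (mem_idJ_iff.1 (hPJ (h (Ideal.subset_span (by simp) : L1 A ∈ idL A)))) isUnit_ψ_L1.ne_zero

lemma isRadical_idI [IsDomain A] : (idI A).IsRadical := by
  rw [idI_eq]
  exact idJ_isPrime.isRadical.inf idL_isPrime.isRadical

lemma isTorsionFree_quotient {P : Ideal (D A)} [IsDomain A]
    (h : ∀ (a : A) (x : D A), a ≠ 0 → C a * x ∈ P → x ∈ P) : Module.IsTorsionFree A (D A ⧸ P) := by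
  refine .of_smul_eq_zero fun a x h0 => ?_
  obtain ⟨x, rfl⟩ := Ideal.Quotient.mk_surjective x
  refine or_iff_not_imp_left.2 fun ha => Ideal.Quotient.eq_zero_iff_mem.2 (h a x ha ?_)
  rw [← smul_eq_C_mul, ← Ideal.Quotient.eq_zero_iff_mem]
  exact h0

lemma mem_idJ_of_C_mul [IsDomain A] {a : A} {x : D A} (ha : a ≠ 0) (h : C a * x ∈ idJ A) : x ∈ idJ A := by
  refine (idJ_isPrime.mem_or_mem h).resolve_left fun hC => ha ?_
  have := mem_idJ_iff.1 hC
  rw [← algebraMap_eq, AlgHom.commutes, IsScalarTower.algebraMap_apply A (R0 A) (KK A)] at this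
  simpa using algebraMap_KK_injective (this.trans (map_zero _).symm)

lemma mem_idL_of_C_mul [IsDomain A] {a : A} {x : D A} (ha : a ≠ 0) (h : C a * x ∈ idL A) : x ∈ idL A := by
  refine (idL_isPrime.mem_or_mem h).resolve_left fun hC => ha ?_
  have := mem_idL_iff.1 hC
  rw [← algebraMap_eq, AlgHom.commutes] at this
  simpa using this

end Groth.Agent.Lie3
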