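import Groth.Agent.Lie3.Main

/-!
# A smooth point
-/

open Finset MvPolynomial Lie3Mod

noncomputable section

namespace Groth.Agent.Lie3

universe u

variable {k : Type u} [Field k]

/-- the maximal ideal of a rational point -/
abbrev ptIdeal {σ : Type*} (c : σ → k) : Ideal (MvPolynomial σ k) := RingHom.ker (aeval c : MvPolynomial σ k →ₐ[k] k)

lemma span_eq_ptIdeal {σ : Type*} (c : σ → k) (S : Set (MvPolynomial σ k)) (h1 : ∀ x ∈ S, aeval c x = 0)
    (h2 : ∀ i, X i - C (c i) ∈ Ideal.span S) : Ideal.span S = ptIdeal c := by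
  refine le_antisymm (Ideal.span_le.2 h1) fun x hx => ?_
  have key : ∀ y, y - C (aeval c y) ∈ Ideal.span S := fun y => by
    induction y using MvPolynomial.induction_on with
    | C a => simp
    | add p q hp hq => rw [map_add, map_add, add_sub_add_comm]; exact add_mem hp hq
    | mul_X p i hp =>
      rw [map_mul, aeval_X, map_mul,
        show p * X i - C (aeval c p) * C (c i) = (p - C (aeval c p)) * X i + C (aeval c p) * (X i - C (c i)) by ring]
      exact add_mem (Ideal.mul_mem_right _ _ hp) (Ideal.mul_mem_left _ _ (h2 i))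
  simpa [show aeval c x = 0 from hx] using key x

instance {σ : Type*} (c : σ → k) : (ptIdeal c).IsPrime := RingHom.ker_isPrime _

lemma height_ptIdeal {n : ℕ} (c : Fin n → k) : (ptIdeal c).height = n := by
  have hub : ((ptIdeal c).height : WithBot ℕ∞) ≤ (n : ℕ∞) := by
    refine (Ideal.height_le_ringKrullDim_of_isPrime).trans ?_
    simp
  refine le_antisymm (WithBot.coe_le_coe.1 hub) ?_
  let f : ℕ → MvPolynomial (Fin n) k →ₐ[k] MvPolynomial (Fin n) k := fun j =>
    aeval fun l => if l.val < j then C (c l) else X l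
  have hlast : RingHom.ker (f n) = ptIdeal c := by
    have : f n = (Algebra.ofId k _).comp (aeval c) := algHom_ext fun l => by simp [f, l.isLt, Algebra.ofId_apply]
    ext x
    simp [this, Algebra.ofId_apply]
  suffices ∀ j ≤ n, (j : ℕ∞) ≤ (RingHom.ker (f j)).height by rw [← hlast]; exact this n le_rfl
  intro j
  induction j with
  | zero => simp
  | succ j ih =>
    intro hj
    have hp : ∀ i, (RingHom.ker (f i)).IsPrime := fun i => RingHom.ker_isPrime _
    have hlt : RingHom.ker (f j) < RingHom.ker (f (j + 1)) := by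
      have hcomp : f (j + 1) = (f (j + 1)).comp (f j) := algHom_ext fun l => by
        by_cases h : l.val < j
        · have : l.val < j + 1 := by omega
          simp [f, h, this, Nat.not_lt.2 h.le]
        · by_cases h' : l.val < j + 1 <;> simp [f, h, h']
      refine lt_of_le_of_ne (fun x hx => ?_) fun e => ?_
      · rw [RingHom.mem_ker] at hx ⊢
        rw [hcomp, AlgHom.comp_apply, hx, map_zero]
      · have hm : (X ⟨j, hj⟩ - C (c ⟨j, hj⟩) : MvPolynomial (Fin n) k) ∈ RingHom.ker (f (j + 1)) := by simp [f]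
        rw [← e] at hm
        have := congrArg (coeff (Finsupp.single ⟨j, hj⟩ 1)) (RingHom.mem_ker.1 hm)
        simp [f, coeff_C, Ne.symm (Finsupp.single_ne_zero.2 one_ne_zero)] at this
    have := hp j
    have := hp (j + 1)
    calc ((j + 1 : ℕ) : ℕ∞) = (j : ℕ∞) + 1 := by push_cast; rfl
      _ ≤ (RingHom.ker (f j)).height + 1 := by gcongr; exact ih (by omega)
      _ ≤ _ := Ideal.height_add_one_le_of_lt_of_isPrime hlt

lemma isRegular_loc (c : Fin 6 → k) :
    IsRegularLocalRing (Localization.AtPrime (ptIdeal c)) ∧ ringKrullDim (Localization.AtPrime (ptIdeal c)) = 6 := by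
  refine ⟨IsRegularRing.isRegularLocalRing_localization _, ?_⟩
  rw [IsLocalization.AtPrime.ringKrullDim_eq_height (ptIdeal c), height_ptIdeal]
  rfl

/-- the residue map at a point -/
def resMap (c : Fin 6 → k) : Localization.AtPrime (ptIdeal c) →ₐ[k] k :=
  IsLocalization.liftAlgHom (M := (ptIdeal c).primeCompl) (f := aeval c) fun y => isUnit_iff_ne_zero.2 y.2

lemma resMap_algebraMap (c : Fin 6 → k) (x : MvPolynomial (Fin 6) k) :
    resMap c (algebraMap _ (Localization.AtPrime (ptIdeal c)) x) = aeval c x := by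
  simp [resMap]

/-- recognizing the local ring of `D/J` at a point by a chart -/
lemma chart (c9 : Fin 9 → k) (c6 : Fin 6 → k) (P : Ideal (D k ⧸ idJ k)) [P.IsPrime]
    (hP : P.comap (Ideal.Quotient.mk (idJ k)) = ptIdeal c9) (G : MvPolynomial (Fin 6) k →ₐ[k] D k)
    (hG : ∀ i, aeval c9 (G (X i)) = c6 i) (F : D k →ₐ[k] Localization.AtPrime (ptIdeal c6))
    (hF : idJ k ≤ RingHom.ker F) (hres : ∀ i, resMap c6 (F (X i)) = c9 i)
    (hFG : ∀ i, F (G (X i)) = algebraMap _ _ (X i : MvPolynomial (Fin 6) k))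
    (hGF : ∀ α : Localization.AtPrime (ptIdeal c6) →ₐ[k] Localization.AtPrime P,
      (∀ x, α (algebraMap _ _ x) = algebraMap _ _ (Ideal.Quotient.mk (idJ k) (G x))) →
      ∀ i, α (F (X i)) = algebraMap _ _ (Ideal.Quotient.mk (idJ k) (X i))) :
    IsRegularLocalRing (Localization.AtPrime P) ∧ ringKrullDim (Localization.AtPrime P) = 6 := by
  let ι : D k →ₐ[k] Localization.AtPrime P :=
    (IsScalarTower.toAlgHom k (D k ⧸ idJ k) _).comp (Ideal.Quotient.mkₐ k (idJ k))
  have hP' : ∀ x, Ideal.Quotient.mk (idJ k) x ∈ P ↔ aeval c9 x = 0 := fun x => by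
    rw [← Ideal.mem_comap, hP, RingHom.mem_ker]
  have hev : (aeval c9).comp G = aeval c6 := algHom_ext fun i => (hG i).trans (aeval_X _ _).symm
  let α : Localization.AtPrime (ptIdeal c6) →ₐ[k] Localization.AtPrime P :=
    IsLocalization.liftAlgHom (M := (ptIdeal c6).primeCompl) (f := ι.comp G) fun y => by
      refine IsLocalization.map_units (M := P.primeCompl) _ ⟨Ideal.Quotient.mk (idJ k) (G y), fun h => y.2 ?_⟩
      show aeval c6 y.1 = 0
      rw [← hev]
      exact (hP' _).1 h
  have hα : ∀ x, α (algebraMap _ _ x) = algebraMap _ _ (Ideal.Quotient.mk (idJ k) (G x)) := fun x => by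
    simp [α, ι]
  have hresF : (resMap c6).comp F = aeval c9 := algHom_ext fun i => (hres i).trans (aeval_X _ _).symm
  let β0 : D k ⧸ idJ k →ₐ[k] Localization.AtPrime (ptIdeal c6) := Ideal.Quotient.liftₐ (idJ k) F fun a ha => hF ha
  let β : Localization.AtPrime P →ₐ[k] Localization.AtPrime (ptIdeal c6) :=
    IsLocalization.liftAlgHom (M := P.primeCompl) (f := β0) fun y => by
      obtain ⟨x, hx⟩ := Ideal.Quotient.mk_surjective (y : D k ⧸ idJ k)
      have hnz : aeval c9 x ≠ 0 := fun e => y.2 (hx ▸ (hP' x).2 e)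
      by_contra hnu
      apply hnz
      have hm : F x ∈ IsLocalRing.maximalIdeal (Localization.AtPrime (ptIdeal c6)) := by
        rw [IsLocalRing.mem_maximalIdeal, mem_nonunits_iff]
        simpa [β0, ← hx] using hnu
      rw [← Localization.AtPrime.map_eq_maximalIdeal] at hm
      have h1 : ∀ z ∈ Ideal.map (algebraMap _ (Localization.AtPrime (ptIdeal c6))) (ptIdeal c6), resMap c6 z = 0 :=
        fun z hz => (Ideal.map_le_iff_le_comap.2 (fun a ha => by
          simpa [resMap_algebraMap] using ha) : _ ≤ RingHom.ker (resMap c6)) hz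
      rw [← hresF]
      exact h1 _ hm
  have hβ : ∀ x, β (algebraMap _ _ (Ideal.Quotient.mk (idJ k) x)) = F x := fun x => by
    simp [β, β0]
  have h1 : ∀ z, β (α z) = z := by
    suffices β.comp α = AlgHom.id k _ from fun z => congrArg (fun f : _ →ₐ[k] _ => f z) this
    refine AlgHom.coe_ringHom_injective (IsLocalization.ringHom_ext (M := (ptIdeal c6).primeCompl) ?_)
    refine ringHom_ext (fun a => ?_) fun i => ?_
    · simp only [RingHom.comp_apply, ← algebraMap_eq, ← IsScalarTower.algebraMap_apply]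
      exact ((β.comp α).commutes a).trans ((AlgHom.id k _).commutes a).symm
    · show β (α (algebraMap _ _ (X i))) = algebraMap _ _ (X i)
      rw [hα, hβ, hFG]
  have h2 : ∀ z, α (β z) = z := by
    suffices α.comp β = AlgHom.id k _ from fun z => congrArg (fun f : _ →ₐ[k] _ => f z) this
    refine AlgHom.coe_ringHom_injective (IsLocalization.ringHom_ext (M := P.primeCompl) ?_)
    refine Ideal.Quotient.ringHom_ext (ringHom_ext (fun a => ?_) fun i => ?_)
    · simp only [RingHom.comp_apply, ← algebraMap_eq, Ideal.Quotient.mk_algebraMap, ← IsScalarTower.algebraMap_apply]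
      exact ((α.comp β).commutes a).trans ((AlgHom.id k _).commutes a).symm
    · show α (β (algebraMap _ _ (Ideal.Quotient.mk (idJ k) (X i)))) = algebraMap _ _ (Ideal.Quotient.mk (idJ k) (X i))
      rw [hβ]
      exact hGF α hα i
  let e : Localization.AtPrime (ptIdeal c6) ≃+* Localization.AtPrime P :=
    (AlgEquiv.ofAlgHom α β (AlgHom.ext h2) (AlgHom.ext h1)).toRingEquiv
  obtain ⟨hr, hd⟩ := isRegular_loc c6
  exact ⟨IsRegularLocalRing.of_ringEquiv e, (ringKrullDim_eq_of_ringEquiv e).symm.trans hd⟩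

lemma comap_point (t : k) (P : Ideal (D k ⧸ idJ k))
    (hP : P = Ideal.map (Ideal.Quotient.mk (idJ k))
      (Ideal.span ({X 0, X 1 - 1, X 2, X 3, X 4, X 5 - C t, X 6, X 7, X 8} : Set (D k)))) :
    P.comap (Ideal.Quotient.mk (idJ k)) = ptIdeal ![0, 1, 0, 0, 0, t, 0, 0, 0] := by
  have hs := span_eq_ptIdeal ![0, 1, 0, 0, 0, t, 0, 0, 0]
    ({X 0, X 1 - 1, X 2, X 3, X 4, X 5 - C t, X 6, X 7, X 8} : Set (D k))
    (by rintro x (rfl | rfl | rfl | rfl | rfl | rfl | rfl | rfl | rfl) <;> simp)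
    (fun i => Ideal.subset_span (by fin_cases i <;> simp))
  rw [hP, hs, Ideal.comap_map_of_surjective _ Ideal.Quotient.mk_surjective, ← RingHom.ker_eq_comap_bot,
    Ideal.mk_ker, sup_eq_left]
  refine Ideal.span_le.2 ?_
  rintro x (rfl | rfl | rfl | rfl) <;> simp [Q1, Q2, Q3, detM]

lemma idJ_le_ker {R : Type*} [CommRing R] [Algebra k R] (F : D k →ₐ[k] R) (h1 : F (Q1 k) = 0) (h2 : F (Q2 k) = 0)
    (h3 : F (Q3 k) = 0) (h4 : F (detM k) = 0) : idJ k ≤ RingHom.ker F := Ideal.span_le.2 <| by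
  rintro x (rfl | rfl | rfl | rfl) <;> simpa

lemma chartA_id {R : Type*} [CommRing R] (a b c d e f g h i w : R) (hw : (b * f - e * c) * w = 1)
    (zQ2 : i * e + b * d - f * h - a * e = 0) (zQ3 : h * c + d * c - a * f - b * i = 0)
    (zdet : -(c * h ^ 2) + g * b * f + e * i ^ 2 - g * e * c + h * b * i - i * h * f = 0) :
    i + (b + f) * (c * h - b * i) * w = a ∧ -h + (b + f) * (f * h - e * i) * w = d ∧
      (c * h ^ 2 - e * i ^ 2 - h * i * (b - f)) * w = g := by
  refine ⟨?_, ?_, ?_⟩
  · linear_combination (a - i) * hw + w * (b * zQ3 - c * zQ2)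
  · linear_combination (d + h) * hw + w * (e * zQ3 - f * zQ2)
  · linear_combination g * hw - w * zdet

lemma add_sub_self' {R : Type*} [CommRing R] (x y : R) : x + y - y = x := add_sub_cancel_right x y

lemma sub_add_self' {R : Type*} [CommRing R] (x y : R) : x - y + y = x := sub_add_cancel x y

lemma chartB_id {R : Type*} [CommRing R] (a b c d e f g h i w : R) (hw : (b + f) * w = 1)
    (zQ1 : a * h + d * i - f * g - b * g = 0) (zQ2 : i * e + b * d - f * h - a * e = 0)
    (zQ3 : h * c + d * c - a * f - b * i = 0) :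
    (d + h) - (e * (a - i) + f * (d + h)) * w = h ∧ (c * (d + h) - f * (a - i)) * w = i ∧
      (h * (a - i) + i * (d + h)) * w = g := by
  refine ⟨?_, ?_, ?_⟩
  · linear_combination (h - (d + h)) * hw + w * zQ2
  · linear_combination i * hw + w * zQ3
  · linear_combination g * hw + w * zQ1

section chartA

variable (t : k)

local notation "c6" => (![1, 0, 0, t, 0, 0] : Fin 6 → k)
local notation "L6" => Localization.AtPrime (ptIdeal (![1, 0, 0, t, 0, 0] : Fin 6 → k))
local notation "v" => (fun i => algebraMap (MvPolynomial (Fin 6) k) L6 (X i))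

/-- chart where `bf - ec` is invertible -/
lemma chartA (ht : t ≠ 0) (P : Ideal (D k ⧸ idJ k)) [P.IsPrime]
    (hP : P.comap (Ideal.Quotient.mk (idJ k)) = ptIdeal ![0, 1, 0, 0, 0, t, 0, 0, 0]) :
    IsRegularLocalRing (Localization.AtPrime P) ∧ ringKrullDim (Localization.AtPrime P) = 6 := by
  let w : MvPolynomial (Fin 6) k := X 0 * X 3 - X 2 * X 1
  have hw : w ∈ (ptIdeal c6).primeCompl := by simp [Ideal.primeCompl, w, ht]
  obtain ⟨iv, hiv⟩ := isUnit_iff_exists_inv.1 (IsLocalization.map_units L6 (M := (ptIdeal c6).primeCompl) ⟨w, hw⟩)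
  replace hiv : (v 0 * v 3 - v 2 * v 1) * iv = 1 := by simpa [w] using hiv
  have hivr : resMap c6 iv = t⁻¹ := by
    have := congrArg (resMap c6) hiv
    simp [resMap_algebraMap] at this
    exact eq_inv_of_mul_eq_one_right this
  let F : D k →ₐ[k] L6 := aeval ![v 5 + (v 0 + v 3) * (v 1 * v 4 - v 0 * v 5) * iv, v 0, v 1,
    -v 4 + (v 0 + v 3) * (v 3 * v 4 - v 2 * v 5) * iv, v 2, v 3,
    (v 1 * v 4 ^ 2 - v 2 * v 5 ^ 2 - v 4 * v 5 * (v 0 - v 3)) * iv, v 4, v 5]
  let G : MvPolynomial (Fin 6) k →ₐ[k] D k := aeval ![vb, vc, ve, vf, vh, vi]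
  refine chart _ c6 P hP G (fun i => ?_) F (idJ_le_ker F ?_ ?_ ?_ ?_) (fun i => ?_) (fun i => ?_) fun α hα i => ?_
  · fin_cases i <;> simp [G]
  · simp [F, Q1]; ring
  · simp [F, Q2]; linear_combination (v 4 * (v 0 + v 3)) * hiv
  · simp [F, Q3]; linear_combination (v 5 * (v 3 + v 0)) * hiv
  · simp [F, detM]; linear_combination (v 1 * v 4 ^ 2 - v 2 * v 5 ^ 2 - v 4 * v 0 * v 5 + v 5 * v 4 * v 3) * hiv
  · fin_cases i <;> simp [F, resMap_algebraMap, hivr]
  · fin_cases i <;> simp [F, G]
  · let ι : D k →+* Localization.AtPrime P := (algebraMap _ _).comp (Ideal.Quotient.mk (idJ k))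
    have hα' : ∀ j, α (v j) = ι (G (X j)) := fun j => hα _
    have hiv' := congrArg α hiv
    have z1 : ∀ y, y ∈ idJ k → ι y = 0 := fun y hy => by
      show algebraMap _ _ (Ideal.Quotient.mk (idJ k) y) = (0 : Localization.AtPrime P)
      rw [Ideal.Quotient.eq_zero_iff_mem.2 hy, map_zero]
    have zdet := z1 (detM k) (Ideal.subset_span (by simp))
    have zQ2 := z1 (Q2 k) (Ideal.subset_span (by simp))
    have zQ3 := z1 (Q3 k) (Ideal.subset_span (by simp))
    simp only [map_mul, map_sub, map_one, hα', G, aeval_X, Matrix.cons_val] at hiv'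
    simp [Q2, Q3, detM] at zdet zQ2 zQ3
    obtain ⟨ea, ed, eg⟩ := chartA_id (ι (X 0)) (ι (X 1)) (ι (X 2)) (ι (X 3)) (ι (X 4)) (ι (X 5)) (ι (X 6)) (ι (X 7))
      (ι (X 8)) (α iv) hiv' zQ2 zQ3 zdet
    show α (F (X i)) = ι (X i)
    fin_cases i <;>
      simp only [F, aeval_X, map_add, map_mul, map_sub, map_neg, map_pow, hα', G, Matrix.cons_val, Fin.reduceFinMk] <;>
      assumption

end chartA

section chartB

variable (t : k)

local notation "c6" => (![0, 0, t, 0, 1 + t, 0] : Fin 6 → k)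
local notation "L6" => Localization.AtPrime (ptIdeal (![0, 0, t, 0, 1 + t, 0] : Fin 6 → k))
local notation "v" => (fun i => algebraMap (MvPolynomial (Fin 6) k) L6 (X i))

/-- chart where `q` is invertible -/
lemma chartB (ht : 1 + t ≠ 0) (P : Ideal (D k ⧸ idJ k)) [P.IsPrime]
    (hP : P.comap (Ideal.Quotient.mk (idJ k)) = ptIdeal ![0, 1, 0, 0, 0, t, 0, 0, 0]) :
    IsRegularLocalRing (Localization.AtPrime P) ∧ ringKrullDim (Localization.AtPrime P) = 6 := by
  have hw : (X 4 : MvPolynomial (Fin 6) k) ∈ (ptIdeal c6).primeCompl := by simp [Ideal.primeCompl, ht]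
  obtain ⟨iv, hiv⟩ := isUnit_iff_exists_inv.1 (IsLocalization.map_units L6 (M := (ptIdeal c6).primeCompl) ⟨_, hw⟩)
  replace hiv : v 4 * iv = 1 := hiv
  have hivr : resMap c6 iv = (1 + t)⁻¹ := by
    have := congrArg (resMap c6) hiv
    simp [resMap_algebraMap] at this
    exact eq_inv_of_mul_eq_one_right this
  let H : L6 := v 5 - (v 1 * v 3 + v 2 * v 5) * iv
  let II : L6 := (v 0 * v 5 - v 2 * v 3) * iv
  let F : D k →ₐ[k] L6 := aeval ![v 3 + II, v 4 - v 2, v 0, v 5 - H, v 1, v 2, (H * v 3 + II * v 5) * iv, H, II]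
  let G : MvPolynomial (Fin 6) k →ₐ[k] D k := aeval ![vc, ve, vf, va - vi, vb + vf, vd + vh]
  have h1 : F (Q1 k) = 0 := by simp [F, Q1]; linear_combination -(H * v 3 + II * v 5) * hiv
  have h2 : F (Q2 k) = 0 := by simp [F, Q2, H]; linear_combination (v 1 * v 3 + v 2 * v 5) * hiv
  have h3 : F (Q3 k) = 0 := by simp [F, Q3, II]; linear_combination -(v 0 * v 5 - v 2 * v 3) * hiv
  refine chart _ c6 P hP G (fun i => ?_) F (idJ_le_ker F h1 h2 h3 ?_) (fun i => ?_) (fun i => ?_) fun α hα i => ?_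
  · fin_cases i <;> simp [G]
  · have hL : detM k * L2 k ∈ idI k := detM_mul_L (Ideal.subset_span (by simp))
    have hI : idI k ≤ RingHom.ker F := Ideal.span_le.2 (by rintro x (rfl | rfl | rfl) <;> simpa)
    have := RingHom.mem_ker.1 (hI hL)
    rw [map_mul, show F (L2 k) = v 4 by simp [F, L2]] at this
    exact (IsUnit.mul_left_eq_zero (IsUnit.of_mul_eq_one _ hiv)).1 this
  · fin_cases i <;> simp [F, H, II, resMap_algebraMap, hivr]
  · fin_cases i <;> simp [F, G]
  · let ι : D k →+* Localization.AtPrime P := (algebraMap _ _).comp (Ideal.Quotient.mk (idJ k))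
    have hα' : ∀ j, α (v j) = ι (G (X j)) := fun j => hα _
    have hiv' := congrArg α hiv
    have z1 : ∀ y, y ∈ idJ k → ι y = 0 := fun y hy => by
      show algebraMap _ _ (Ideal.Quotient.mk (idJ k) y) = (0 : Localization.AtPrime P)
      rw [Ideal.Quotient.eq_zero_iff_mem.2 hy, map_zero]
    have zQ1 := z1 (Q1 k) (Ideal.subset_span (by simp))
    have zQ2 := z1 (Q2 k) (Ideal.subset_span (by simp))
    have zQ3 := z1 (Q3 k) (Ideal.subset_span (by simp))
    simp only [map_mul, map_one, hα', G, aeval_X, Matrix.cons_val, map_add] at hiv'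
    simp [Q1, Q2, Q3] at zQ1 zQ2 zQ3
    obtain ⟨eh, ei, eg⟩ := chartB_id (ι (X 0)) (ι (X 1)) (ι (X 2)) (ι (X 3)) (ι (X 4)) (ι (X 5)) (ι (X 6)) (ι (X 7))
      (ι (X 8)) (α iv) hiv' zQ1 zQ2 zQ3
    have eH : α H = ι (X 7) := by
      simp only [H, map_add, map_mul, map_sub, hα', G, aeval_X, Matrix.cons_val]
      exact eh
    have eI : α II = ι (X 8) := by
      simp only [II, map_add, map_mul, map_sub, hα', G, aeval_X, Matrix.cons_val]
      exact ei
    show α (F (X i)) = ι (X i)
    fin_cases i <;>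
      simp only [F, aeval_X, map_add, map_mul, map_sub, eH, eI, hα', G, Matrix.cons_val, Fin.reduceFinMk
        ] <;> first | assumption | exact add_sub_self' (R := Localization.AtPrime P) _ _ | exact sub_add_self' (R := Localization.AtPrime P) _ _

end chartB

/-- the point `[x,y] = y`, `[x,z] = t z` is regular -/
lemma isRegular_point (t : k) (P : Ideal (D k ⧸ idJ k)) [P.IsPrime]
    (hP : P = Ideal.map (Ideal.Quotient.mk (idJ k))
      (Ideal.span ({X 0, X 1 - 1, X 2, X 3, X 4, X 5 - C t, X 6, X 7, X 8} : Set (D k)))) :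
    IsRegularLocalRing (Localization.AtPrime P) ∧ ringKrullDim (Localization.AtPrime P) = 6 := by
  by_cases ht : t = 0
  · exact chartB t (by simp [ht]) P (comap_point t P hP)
  · exact chartA t ht P (comap_point t P hP)

end Groth.Agent.Lie3
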