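import Groth.Agent.Lie3.Main

/-!
# Regular sequences
-/

open Finset MvPolynomial Lie3Mod

noncomputable section

namespace Groth.Agent.Lie3

universe u

variable {σ : Type*} {A : Type u} [CommRing A]

open Classical in
/-- modulo an ideal from generators free of `X_j`, a linear polynomial with regular leading coefficient is regular -/
lemma regular_mod_linear (j : σ) (S : Set (MvPolynomial σ A)) (hS : ∀ g ∈ S, kill j g = g)
    {p b : MvPolynomial σ A} (hp : kill j p = p) (hb : kill j b = b)
    (hreg : ∀ u, p * u ∈ Ideal.span S → u ∈ Ideal.span S) {u : MvPolynomial σ A}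
    (h : (X j * p + b) * u ∈ Ideal.span S) : u ∈ Ideal.span S := by
  let T := Ideal.span S
  let m := Ideal.Quotient.mkₐ A T
  let χ : MvPolynomial σ A →ₐ[A] Polynomial (MvPolynomial σ A ⧸ T) :=
    aeval fun l => if l = j then Polynomial.X else Polynomial.C (m (X l))
  have hfree : ∀ x, χ (kill j x) = Polynomial.C (m (kill j x)) := fun x => by
    suffices χ.comp (kill j) = (Polynomial.CAlgHom (R := A)).comp (m.comp (kill j)) from
      congrArg (fun f : MvPolynomial σ A →ₐ[A] _ => f x) this
    refine algHom_ext fun l => ?_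
    by_cases hl : l = j
    · subst hl; simp
    · simp [kill_X_of_ne hl, χ, hl]
  have hback : ∀ x, (χ x).eval (m (X j)) = m x := fun x => by
    suffices ((Polynomial.aeval (m (X j))).restrictScalars A).comp χ = m by
      simpa [Polynomial.coe_aeval_eq_eval] using congrArg (fun f : MvPolynomial σ A →ₐ[A] _ => f x) this
    refine algHom_ext fun l => ?_
    by_cases hl : l = j
    · subst hl; simp [χ]
    · simp [χ, hl]
  have hT : T ≤ RingHom.ker χ := Ideal.span_le.2 fun g hg => by
    rw [SetLike.mem_coe, RingHom.mem_ker, ← hS g hg, hfree, hS g hg,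
      show m g = 0 from Ideal.Quotient.eq_zero_iff_mem.2 (Ideal.subset_span hg), map_zero]
  have hX : χ (X j) = Polynomial.X := by simp [χ]
  have h0 := RingHom.mem_ker.1 (hT h)
  rw [map_mul, map_add, map_mul, hX, ← hp, hfree, ← hb, hfree, hp, hb, Polynomial.X_mul] at h0
  have hzero : χ u = 0 := by
    by_contra hne
    apply Polynomial.leadingCoeff_ne_zero.2 hne
    have hc := congrArg (fun q : Polynomial _ => q.coeff ((χ u).natDegree + 1)) h0
    rw [Polynomial.coeff_zero, add_mul, Polynomial.coeff_add, Polynomial.coeff_C_mul, mul_assoc,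
      Polynomial.coeff_C_mul, Polynomial.coeff_X_mul, Polynomial.coeff_eq_zero_of_natDegree_lt (Nat.lt_succ_self _),
      mul_zero, add_zero] at hc
    obtain ⟨w, hw⟩ := Ideal.Quotient.mk_surjective ((χ u).coeff (χ u).natDegree)
    rw [← hw, show m p = Ideal.Quotient.mk T p from rfl, ← map_mul, Ideal.Quotient.eq_zero_iff_mem] at hc
    rw [← Polynomial.coeff_natDegree, ← hw, Ideal.Quotient.eq_zero_iff_mem]
    exact hreg _ hc
  have := hback u
  rw [hzero, Polynomial.eval_zero] at this
  exact Ideal.Quotient.eq_zero_iff_mem.1 this.symm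

/-- exchange -/
lemma X_regular_mod {j : σ} {y : MvPolynomial σ A} (hy : ∀ v, v * kill j y = 0 → v = 0) {u : MvPolynomial σ A}
    (h : X j * u ∈ Ideal.span {y}) : u ∈ Ideal.span {y} := by
  obtain ⟨z, hz⟩ := Ideal.mem_span_singleton'.1 h
  obtain ⟨w, hw⟩ := X_dvd_sub_kill j z
  have := congrArg (kill j) hz
  rw [map_mul, map_mul, kill_X_self, zero_mul] at this
  rw [hy _ this, sub_zero] at hw
  exact Ideal.mem_span_singleton'.2 ⟨w, (isRegular_X' j).left (show X j * (w * y) = X j * u by rw [← hz, hw, mul_assoc])⟩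

/-- regular triples -/
lemma isRegular3 {r1 r2 r3 : MvPolynomial σ A} (h1 : ∀ u, r1 * u = 0 → u = 0)
    (h2 : ∀ u, r2 * u ∈ Ideal.span {r1} → u ∈ Ideal.span {r1})
    (h3 : ∀ u, r3 * u ∈ Ideal.span {r1, r2} → u ∈ Ideal.span {r1, r2})
    (hne : (1 : MvPolynomial σ A) ∉ Ideal.span {r1, r2, r3}) :
    RingTheory.Sequence.IsRegular (MvPolynomial σ A) [r1, r2, r3] := by
  have e1 : Ideal.ofList [r1] = Ideal.span {r1} := Ideal.ofList_singleton _
  have e2 : Ideal.ofList [r1, r2] = Ideal.span {r1, r2} := congrArg Ideal.span (Set.ext fun x => by simp)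
  have e3 : Ideal.ofList [r1, r2, r3] = Ideal.span {r1, r2, r3} := congrArg Ideal.span (Set.ext fun x => by simp)
  refine ⟨⟨fun i hi => ?_⟩, fun e => hne ?_⟩
  · rw [isSMulRegular_quotient_iff_mem_of_smul_mem]
    simp only [smul_eq_mul, Ideal.mul_top]
    simp only [List.length_cons, List.length_nil] at hi
    interval_cases i <;> simp only [List.take_succ_cons, List.take_zero, e1, e2, Ideal.ofList_nil,
      List.getElem_cons_zero, List.getElem_cons_succ]
    · exact fun u hu => h1 u (Ideal.mem_bot.1 hu)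
    · exact h2
    · exact h3
  · rw [smul_eq_mul, Ideal.mul_top, e3] at e
    rw [← e]; trivial

/-- `a, b, d` become `a + i, b - f, d - h` -/
def sig : D A ≃ₐ[A] D A :=
  AlgEquiv.ofAlgHom (aeval ![va + vi, vb - vf, vc, vd - vh, ve, vf, vg, vh, vi])
    (aeval ![va - vi, vb + vf, vc, vd + vh, ve, vf, vg, vh, vi])
    (algHom_ext fun i => by fin_cases i <;> simp)
    (algHom_ext fun i => by fin_cases i <;> simp)

lemma mem_of_sig {S : Set (D A)} {u : D A} (h : sig u ∈ Ideal.span (sig '' S)) : u ∈ Ideal.span S := by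
  have := Ideal.mem_map_of_mem (sig (A := A)).symm h
  rwa [Ideal.map_span, Set.image_image, Set.image_congr (g := id) (fun a _ => sig.symm_apply_apply a),
    Set.image_id, AlgEquiv.symm_apply_apply] at this

lemma sig_mem {S : Set (D A)} {u : D A} (h : u ∈ Ideal.span S) : sig u ∈ Ideal.span (sig '' S) := by
  rw [← Ideal.map_span]; exact Ideal.mem_map_of_mem _ h

lemma reg_pair {S : Set (D A)} {r : D A} (H : ∀ v, sig r * v ∈ Ideal.span (sig '' S) → v ∈ Ideal.span (sig '' S))
    (u : D A) (h : r * u ∈ Ideal.span S) : u ∈ Ideal.span S :=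
  mem_of_sig (H _ (by rw [← map_mul]; exact sig_mem h))

lemma one_notMem_idL [Nontrivial A] : (1 : D A) ∉ idL A := fun h => by simpa using mem_idL_iff.1 h

lemma isRegular_L [Nontrivial A] : RingTheory.Sequence.IsRegular (D A) [L1 A, L2 A, L3 A] := by
  have e1 : sig (L1 A) = va := by simp [sig, L1]
  have e2 : sig (L2 A) = vb := by simp [sig, L2]
  have e3 : sig (L3 A) = vd := by simp [sig, L3]
  refine isRegular3 (fun u hu => ?_) (reg_pair fun v hv => ?_) (reg_pair fun v hv => ?_) one_notMem_idL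
  · have := congrArg sig hu
    rw [map_mul, e1, map_zero, mul_comm] at this
    exact sig.injective ((eq_zero_of_mul_X_pow (j := (0 : Fin 9)) (m := 1) (by rwa [pow_one])).trans (map_zero _).symm)
  · rw [Set.image_singleton, e1] at hv ⊢
    refine regular_mod_linear (j := (1 : Fin 9)) (p := 1) (b := 0) _ (by simp [kill_X_of_ne]) (by simp) (by simp)
      (fun w hw => by rwa [one_mul] at hw) ?_
    rw [e2] at hv; rwa [mul_one, add_zero]
  · rw [Set.image_pair, e1, e2] at hv ⊢
    refine regular_mod_linear (j := (3 : Fin 9)) (p := 1) (b := 0) _ (by simp [kill_X_of_ne]) (by simp) (by simp)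
      (fun w hw => by rwa [one_mul] at hw) ?_
    rw [e3] at hv; rwa [mul_one, add_zero]

lemma isRegular_Q [Nontrivial A] : RingTheory.Sequence.IsRegular (D A) [Q1 A, Q2 A, Q3 A] := by
  have e1 : sig (Q1 A) = va * vh + vd * vi - vb * vg := by simp [sig, Q1]; ring
  have e2 : sig (Q2 A) = ve * (-va) + (vb * vd - vb * vh - vf * vd) := by simp [sig, Q2]; ring
  have e3 : sig (Q3 A) = vc * vd + (-(va * vf) - vb * vi) := by simp [sig, Q3]; ring
  refine isRegular3 (fun u hu => ?_) (reg_pair fun v hv => ?_) (reg_pair fun v hv => ?_)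
    fun h => one_notMem_idL (A := A) ((idI_le_idL (A := A)) h)
  · have := congrArg sig hu
    rw [map_mul, e1, map_zero, mul_comm,
      show va * vh + vd * vi - vb * vg = (X 0 : D A) * vh + (vd * vi - vb * vg) from add_sub_assoc _ _ _] at this
    refine sig.injective ((eq_zero_of_mul_linear (by simp [kill_X_of_ne]) (fun w hw => ?_) this).trans (map_zero _).symm)
    rw [show vd * vi - vb * vg = (X 3 : D A) * vi + -(vb * vg) from sub_eq_add_neg _ _] at hw
    refine eq_zero_of_mul_linear (by simp [kill_X_of_ne]) (fun z hz => ?_) hw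
    rw [mul_neg, neg_eq_zero] at hz
    exact ((isRegular_X' _).mul (isRegular_X' _)).right (by simpa using hz)
  · rw [Set.image_singleton, e1] at hv ⊢
    rw [e2] at hv
    refine regular_mod_linear (j := (4 : Fin 9)) _ (by simp [kill_X_of_ne]) (by simp [kill_X_of_ne])
      (by simp [kill_X_of_ne]) (fun w hw => ?_) hv
    rw [neg_mul] at hw
    refine X_regular_mod (fun z hz => ?_) (neg_mem_iff.1 hw)
    simp [kill_X_of_ne] at hz
    rw [show vd * vi - vb * vg = (X 3 : D A) * vi + -(vb * vg) from sub_eq_add_neg _ _] at hz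
    refine eq_zero_of_mul_linear (by simp [kill_X_of_ne]) (fun z hz => ?_) hz
    rw [mul_neg, neg_eq_zero] at hz
    exact ((isRegular_X' _).mul (isRegular_X' _)).right (by simpa using hz)
  · rw [Set.image_pair, e1, e2] at hv ⊢
    rw [e3] at hv
    refine regular_mod_linear (j := (2 : Fin 9)) _ (by simp [kill_X_of_ne]) (by simp [kill_X_of_ne])
      (by simp [kill_X_of_ne]) (fun w hw => ?_) hv
    generalize hR1 : (va * vh + vd * vi - vb * vg : D A) = R1 at hw ⊢
    generalize hR2 : (ve * (-va) + (vb * vd - vb * vh - vf * vd) : D A) = R2 at hw ⊢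
    obtain ⟨z1, z2, hz⟩ := Ideal.mem_span_pair.1 hw
    have k1 : kill 3 R1 = (X 0 : D A) * vh + -(vb * vg) := by rw [← hR1]; simp [kill_X_of_ne, sub_eq_add_neg]
    have k2 : kill 3 R2 = (X 4 : D A) * (-va) + -(vb * vh) := by rw [← hR2]; simp [kill_X_of_ne, sub_eq_add_neg]
    have h0 := congrArg (kill 3) hz
    rw [map_add, map_mul, map_mul, map_mul, kill_X_self, zero_mul] at h0
    have hr1 : ∀ z : D A, z * kill 3 R1 = 0 → z = 0 := fun z hz' => by
      rw [k1] at hz'
      refine eq_zero_of_mul_linear (by simp [kill_X_of_ne]) (fun y hy => ?_) hz'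
      rw [mul_neg, neg_eq_zero] at hy
      exact ((isRegular_X' _).mul (isRegular_X' _)).right (by simpa using hy)
    have hmem : kill 3 z2 ∈ Ideal.span {kill 3 R1} := by
      refine regular_mod_linear (j := (4 : Fin 9)) (p := -va) (b := -(vb * vh)) _ (by simp [k1, kill_X_of_ne])
        (by simp [kill_X_of_ne]) (by simp [kill_X_of_ne]) (fun y hy => ?_) ?_
      · rw [neg_mul] at hy
        refine X_regular_mod (fun x hx => ?_) (neg_mem_iff.1 hy)
        simp [k1, kill_X_of_ne] at hx
        exact ((isRegular_X' _).mul (isRegular_X' _)).right (by simpa using hx)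
      · exact Ideal.mem_span_singleton'.2 ⟨-(kill 3 z1), by rw [← k2]; linear_combination -h0⟩
    obtain ⟨t, ht⟩ := Ideal.mem_span_singleton'.1 hmem
    have hk1 : kill 3 z1 + t * kill 3 R2 = 0 := hr1 _ (by linear_combination h0 + kill 3 R2 * ht)
    obtain ⟨t1, ht1⟩ := X_dvd_sub_kill (3 : Fin 9) z1
    obtain ⟨t2, ht2⟩ := X_dvd_sub_kill (3 : Fin 9) z2
    obtain ⟨s1, hs1⟩ := X_dvd_sub_kill (3 : Fin 9) R1
    obtain ⟨s2, hs2⟩ := X_dvd_sub_kill (3 : Fin 9) R2
    refine Ideal.mem_span_pair.2 ⟨t1 + t * s2, t2 - t * s1, (isRegular_X' (3 : Fin 9)).left ?_⟩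
    show X 3 * _ = X 3 * w
    linear_combination hz - hk1 * R1 + ht * R2 - ht1 * R1 - ht2 * R2 - t * R1 * hs2 + t * R2 * hs1

end Groth.Agent.Lie3
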